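import Groth.Agent.S1026
import Groth.Agent.S0034
import Groth.Agent.S0018
import Groth.Agent.Fga.EulerIso
import Groth.Agent.Pic13.H138.Slice
import Groth.Agent.VarietyB.PullSec

/-!
# Fibres at `k`-points of families of modules, Betti numbers and Euler characteristics

`f : Y ⟶ T`, `τ : Spec k ⟶ T` with image `y`, `X` the base change of `Y` along `τ` (`j : X ⟶ Y`), `M` a quasi-coherent
module on `Y`.
* `finrank_eq_betti`: `dim_k H^i(X, j^* M) = β_i(y)`, the `i`-th Betti number of the fibre over `y`.
* `subsingleton_HH`: vanishing of the cohomology of the fibre over `y` implies that of `H^i(X, j^* M)`.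
* `eulerCharLE_eq_eulerChar`: `χ_{≤ d}(X, j^* M) = χ(y)` if `H^i(X, j^* M) = 0` for `i > d`.
* `eulerCharLE_eq_of_connected`: constancy of the Euler characteristic in flat proper families.
-/

set_option autoImplicit false
universe u
open CategoryTheory CategoryTheory.Limits AlgebraicGeometry

namespace Groth.Agent.Pic13.H952.FibrePt

section general

variable {k : Type u} [Field k] {X Y T : Scheme.{u}} [X.Over (Spec (CommRingCat.of k))]
  (f : Y ⟶ T) (τ : Spec (CommRingCat.of k) ⟶ T) (j : X ⟶ Y)

/-- `X` is a base change of the fibre of `f` over the image of `τ`. -/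
theorem exists_fac (H : IsPullback j (X ↘ Spec (CommRingCat.of k)) f τ) (y : T) (hy : y ∈ Set.range τ) :
    ∃ (s : Spec (CommRingCat.of k) ⟶ Spec (T.residueField y)) (g : X ⟶ f.fiber y),
      g ≫ f.fiberι y = j ∧ IsPullback g (X ↘ Spec (CommRingCat.of k)) (f.fiberToSpecResidueField y) s := by
  obtain ⟨x, rfl⟩ := hy
  obtain rfl : x = IsLocalRing.closedPoint k := Subsingleton.elim _ _
  let s : Spec (CommRingCat.of k) ⟶ Spec (T.residueField (τ (IsLocalRing.closedPoint k))) :=
    Spec.map (Scheme.descResidueField (Scheme.stalkClosedPointTo τ))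
  have hs : s ≫ T.fromSpecResidueField _ = τ :=
    Scheme.descResidueField_stalkClosedPointTo_fromSpecResidueField k T τ
  let g : X ⟶ f.fiber (τ (IsLocalRing.closedPoint k)) :=
    pullback.lift j ((X ↘ Spec (CommRingCat.of k)) ≫ s) (by
      rw [Category.assoc, hs, H.w])
  have e : g ≫ f.fiberι _ = j := pullback.lift_fst _ _ _
  refine ⟨s, g, e, ?_⟩
  refine IsPullback.of_right (h₁₂ := f.fiberι _) (v₁₃ := f) (h₂₂ := T.fromSpecResidueField _) ?_
    (pullback.lift_snd _ _ _) (IsPullback.of_hasPullback _ _)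
  rw [e, hs]
  exact H

variable [QuasiCompact f] [QuasiSeparated f]

theorem exists_linearEquiv (H : IsPullback j (X ↘ Spec (CommRingCat.of k)) f τ) (y : T)
    (hy : y ∈ Set.range τ) (M : Y.Modules) (hM : Coh.IsQCoh M) (i : ℕ) :
    ∃ (_ : Algebra (T.residueField y) k),
      Nonempty (TensorProduct (T.residueField y) k (PerfAux.fiberH f M y i) ≃ₗ[k]
        Coh.HH X ((Scheme.Modules.pullback j).obj M) i) := by
  obtain ⟨s, g, hg, Hg⟩ := exists_fac f τ j H y hy
  obtain ⟨φ, rfl⟩ : ∃ φ, s = Spec.map φ := ⟨_, (Spec.map_preimage s).symm⟩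
  let _ : Algebra (T.residueField y) k := φ.hom.toAlgebra
  let _ : (f.fiber y).Over (Spec (CommRingCat.of (T.residueField y))) := ⟨f.fiberToSpecResidueField y⟩
  refine ⟨inferInstance, ?_⟩
  have hq1 : QuasiCompact (f.fiberToSpecResidueField y) :=
    MorphismProperty.pullback_snd (P := @QuasiCompact) f (T.fromSpecResidueField y) inferInstance
  have hq2 : QuasiSeparated (f.fiberToSpecResidueField y) :=
    MorphismProperty.pullback_snd (P := @QuasiSeparated) f (T.fromSpecResidueField y) inferInstance
  have h1 : CompactSpace (f.fiber y) := QuasiCompact.compactSpace_of_compactSpace (f.fiberToSpecResidueField y)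
  have h2 : QuasiSeparatedSpace (f.fiber y) := quasiSeparatedSpace_of_quasiSeparated (f.fiberToSpecResidueField y)
  have hq : Coh.IsQCoh ((Scheme.Modules.pullback (f.fiberι y)).obj M) :=
    VarietyB.PullSec.isQCoh_pullback _ M hM
  obtain ⟨e⟩ := Groth.Agent.S0034.result (T.residueField y) k (f.fiber y) X g Hg
    ((Scheme.Modules.pullback (f.fiberι y)).obj M) i
  have E : (Scheme.Modules.pullback g).obj ((Scheme.Modules.pullback (f.fiberι y)).obj M) ≅
      (Scheme.Modules.pullback j).obj M :=
    (Scheme.Modules.pullbackComp g (f.fiberι y)).app M ≪≫ (Scheme.Modules.pullbackCongr hg).app M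
  exact ⟨e.trans (Fga.EulerIso.HHequiv k E i)⟩

/-- `dim_k H^i(X, j^* M)` is the `i`-th Betti number of the fibre over `y`. -/
theorem finrank_eq_betti (H : IsPullback j (X ↘ Spec (CommRingCat.of k)) f τ) (y : T)
    (hy : y ∈ Set.range τ) (M : Y.Modules) (hM : Coh.IsQCoh M) (i : ℕ) :
    Module.finrank k (Coh.HH X ((Scheme.Modules.pullback j).obj M) i) = PerfAux.betti f M y i := by
  obtain ⟨_, ⟨e⟩⟩ := exists_linearEquiv f τ j H y hy M hM i
  rw [← e.finrank_eq, Module.finrank_baseChange]
  rfl

/-- Vanishing of the cohomology of the fibre over `y` implies that of `H^i(X, j^* M)`. -/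
theorem subsingleton_HH (H : IsPullback j (X ↘ Spec (CommRingCat.of k)) f τ) (y : T)
    (hy : y ∈ Set.range τ) (M : Y.Modules) (hM : Coh.IsQCoh M) (i : ℕ)
    (h : Subsingleton (PerfAux.fiberH f M y i)) :
    Subsingleton (Coh.HH X ((Scheme.Modules.pullback j).obj M) i) := by
  obtain ⟨_, ⟨e⟩⟩ := exists_linearEquiv f τ j H y hy M hM i
  exact e.symm.injective.subsingleton

/-- `χ_{≤ d}(X, j^* M)` is the Euler characteristic of the fibre over `y` if `H^i(X, j^* M) = 0` for `i > d`. -/
theorem eulerCharLE_eq_eulerChar (H : IsPullback j (X ↘ Spec (CommRingCat.of k)) f τ) (y : T)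
    (hy : y ∈ Set.range τ) (M : Y.Modules) (hM : Coh.IsQCoh M) (d : ℕ)
    (hd : ∀ i, d < i → Subsingleton (Coh.HH X ((Scheme.Modules.pullback j).obj M) i)) :
    FGA.eulerCharLE k X ((Scheme.Modules.pullback j).obj M) d = PerfAux.eulerChar f M y := by
  unfold PerfAux.eulerChar FGA.eulerCharLE
  rw [finsum_eq_sum_of_support_subset (s := Finset.range (d + 1))]
  · exact Finset.sum_congr rfl fun i _ => by rw [finrank_eq_betti f τ j H y hy M hM i]
  · intro n hn
    by_contra hc
    have h2 : d < n := by
      have h5 : ¬ n < d + 1 := by simpa using hc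
      omega
    have h3 := hd n h2
    apply hn
    have h4 : PerfAux.betti f M y n = 0 := by
      rw [← finrank_eq_betti f τ j H y hy M hM n]
      exact Module.finrank_zero_of_subsingleton
    simp only [h4, Nat.cast_zero, mul_zero]

end general

section slices

variable {k : Type u} [Field k] (X : Scheme.{u}) [X.Over (Spec (CommRingCat.of k))]
  {T : Scheme.{u}} (q : T ⟶ Spec (CommRingCat.of k))

/-- The slice is the base change of the projection along the `k`-point. -/
theorem isPullback_sliceAt (t : Spec (CommRingCat.of k) ⟶ T) (ht : t ≫ q = 𝟙 _) :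
    IsPullback (Pic13.sliceAt k X q t ht) (X ↘ Spec (CommRingCat.of k))
      (pullback.snd (X ↘ Spec (CommRingCat.of k)) q) t := by
  refine IsPullback.of_right (h₁₂ := pullback.fst (X ↘ Spec (CommRingCat.of k)) q)
    (v₁₃ := X ↘ Spec (CommRingCat.of k)) (h₂₂ := q) ?_
    (H138.Slice.sliceAt_snd k X q t ht) (IsPullback.of_hasPullback _ _).flip.flip
  rw [H138.Slice.sliceAt_fst, ht]
  exact IsPullback.of_horiz_isIso ⟨by simp⟩

end slices

end Groth.Agent.Pic13.H952.FibrePt
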